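import Groth.Agent.Lib.PtInt5.Constr
import Groth.Agent.Lib.GeomInt5.PtInt
import Groth.Agent.Lib.FibDepth5.GeomRedOpen

/-!
The locus of geometrically pointwise integral points of fibres of a flat morphism is open (EGA IV 12.1.1).
-/

set_option autoImplicit false
set_option linter.style.haveILetI false
set_option backward.isDefEq.respectTransparency false
set_option backward.isDefEq.respectTransparency.types false
set_option maxHeartbeats 800000

universe u

open CategoryTheory CategoryTheory.Limits AlgebraicGeometry TopologicalSpace IsLocalRing Topology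

namespace Groth.Agent.PtInt5

/-- Along a complete trait: generization preserves geometric pointwise integrality. -/
theorem ptInt_generic {X Y : Scheme.{u}} (f : X ⟶ Y) [Flat f] [LocallyOfFinitePresentation f] [QuasiCompact f]
    {A : Type u} [CommRing A] [IsDomain A] [IsDiscreteValuationRing A] [IsAdicComplete (maximalIdeal A) A]
    [IsAlgClosed (ResidueField A)] (σ₀ : Spec (CommRingCat.of A) ⟶ X)
    (hint : PtInt f (σ₀ (closedPoint A))) :
    PtInt f (σ₀ (genericPoint (Spec (CommRingCat.of A)))) := by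
  let g := σ₀ ≫ f
  let K := FractionRing A
  let jA : Spec (CommRingCat.of K) ⟶ Spec (CommRingCat.of A) := Spec.map (CommRingCat.ofHom (algebraMap A K))
  have hjA : jA (closedPoint K) = genericPoint (Spec (CommRingCat.of A)) := S4978.pt_generic (K := K) A
  let P := pullback f (jA ≫ g)
  letI : P.Over (Spec (CommRingCat.of K)) := ⟨pullback.snd f (jA ≫ g)⟩
  have hfin : {z : ↥(Curv2.bc K P (SeparableClosure K)) | GeomIrr.IsMaximalPt z}.Finite := by
    let r : Curv2.bc K P (SeparableClosure K) ⟶ Spec (CommRingCat.of (SeparableClosure K)) :=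
      Curv2.bcSnd K P (SeparableClosure K)
    haveI : LocallyOfFiniteType r := MorphismProperty.pullback_snd (pullback.snd f (jA ≫ g)) _ inferInstance
    haveI : QuasiCompact r := MorphismProperty.pullback_snd (pullback.snd f (jA ≫ g)) _ inferInstance
    haveI : IsLocallyNoetherian (Curv2.bc K P (SeparableClosure K)) := LocallyOfFiniteType.isLocallyNoetherian r
    haveI : CompactSpace ↥(Curv2.bc K P (SeparableClosure K)) := QuasiCompact.compactSpace_of_compactSpace r
    haveI : AlgebraicGeometry.IsNoetherian (Curv2.bc K P (SeparableClosure K)) := {}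
    refine Set.Finite.of_finite_image
      ((NoetherianSpace.finite_irreducibleComponents (α := ↥(Curv2.bc K P (SeparableClosure K)))).subset ?_)
      (f := fun z => closure ({z} : Set ↥(Curv2.bc K P (SeparableClosure K)))) ?_
    · rintro _ ⟨z, hz, rfl⟩
      exact GeomIrr.closure_mem_of_isMaximalPt hz
    · exact fun z _ w _ hzw => (inseparable_iff_closure_eq.2 hzw).eq
  obtain ⟨F, hF, hlev⟩ := GeomIrr.exists_level_irreducible K P hfin
  haveI := hF
  let L : Type u := ↥F
  letI : Algebra A L := ((algebraMap K L).comp (algebraMap A K)).toAlgebra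
  haveI : IsScalarTower A K L := IsScalarTower.of_algebraMap_eq fun _ => rfl
  obtain ⟨hB, hBloc, hBres⟩ := GeomPts5.integralClosure_dvr A L
  haveI := hB
  haveI := hBloc
  haveI := hBres
  haveI : FaithfulSMul A L := (faithfulSMul_iff_algebraMap_injective A L).2
    ((algebraMap K L).injective.comp (IsFractionRing.injective A K))
  haveI : IsFractionRing (integralClosure A L) L := integralClosure.isFractionRing_of_finite_extension K L
  let cA : Spec (CommRingCat.of (integralClosure A L)) ⟶ Spec (CommRingCat.of A) :=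
    Spec.map (CommRingCat.ofHom (algebraMap A (integralClosure A L)))
  let j : Spec (CommRingCat.of L) ⟶ Spec (CommRingCat.of (integralClosure A L)) :=
    Spec.map (CommRingCat.ofHom (algebraMap (integralClosure A L) L))
  haveI : IsPreimmersion j := IsPreimmersion.of_isLocalization (nonZeroDivisors (integralClosure A L))
  haveI : Flat j := by
    rw [Flat.SpecMap_iff]
    exact RingHom.flat_algebraMap_iff.2 (IsLocalization.flat L (nonZeroDivisors (integralClosure A L)))
  let gB := cA ≫ g
  have hpb : j ≫ gB = Spec.map (CommRingCat.ofHom (algebraMap K L)) ≫ jA ≫ g := by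
    simp only [j, gB, cA, jA, ← Category.assoc, ← Spec.map_comp, ← CommRingCat.ofHom_comp]
    rfl
  let q := pullback.snd f gB
  let sB : Spec (CommRingCat.of (integralClosure A L)) ⟶ pullback f gB :=
    pullback.lift (cA ≫ σ₀) (𝟙 _) (by rw [Category.id_comp, Category.assoc])
  let c := sB (closedPoint (integralClosure A L))
  have hqc : q c = closedPoint (integralClosure A L) := by
    show q (sB _) = _
    rw [← Scheme.Hom.comp_apply, pullback.lift_snd]
    rfl
  have hc : pullback.fst f gB c = σ₀ (closedPoint A) := by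
    show pullback.fst f gB (sB _) = _
    rw [← Scheme.Hom.comp_apply, pullback.lift_fst]
    exact congrArg σ₀ (IsLocalRing.comap_closedPoint (algebraMap A _))
  haveI hdc : IsDomain ((pullback f gB).presheaf.stalk c) := by
    have h2 : PtInt f (pullback.fst f gB c) := by rw [hc]; exact hint
    exact GeomInt5.isDomain_stalk q c hqc (GeomIntUnibr4.isDomain_stalk_of_geomPtIntegral _ _
      (GeomIntUnibr4.isGeomPtIntegralAt_baseChange f (IsPullback.of_hasPullback f gB) c h2))
  let σ := Spec.map (CommRingCat.ofHom (algebraMap K L))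
  let r : Curv2.bc K P L ⟶ Spec (CommRingCat.of L) := Curv2.bcSnd K P L
  have hA : IsPullback (Curv2.bcFst K P L ≫ pullback.fst f (jA ≫ g)) r f (j ≫ gB) := by
    have h := (IsPullback.of_hasPullback (pullback.snd f (jA ≫ g)) σ).paste_horiz
      (IsPullback.of_hasPullback f (jA ≫ g))
    rw [hpb]
    exact h
  have hB : IsPullback (pullback.fst q j ≫ pullback.fst f gB) (pullback.snd q j) f (j ≫ gB) :=
    (IsPullback.of_hasPullback q j).paste_horiz (IsPullback.of_hasPullback f gB)
  let e : Curv2.bc K P L ≅ pullback q j := hA.isoIsPullback _ _ hB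
  haveI : Flat (pullback.fst q j) := MorphismProperty.pullback_fst (P := @Flat) _ _ inferInstance
  let Ω := AlgebraicClosure L
  let τ := Spec.map (CommRingCat.ofHom (algebraMap L Ω))
  let π := pullback.fst r τ
  let t : Spec (CommRingCat.of Ω) ⟶ Y := τ ≫ σ ≫ jA ≫ g
  have hC : IsPullback (π ≫ Curv2.bcFst K P L ≫ pullback.fst f (jA ≫ g)) (pullback.snd r τ) f t := by
    have h := (IsPullback.of_hasPullback r τ).paste_horiz
      ((IsPullback.of_hasPullback (pullback.snd f (jA ≫ g)) σ).paste_horiz (IsPullback.of_hasPullback f (jA ≫ g)))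
    exact h
  let e' : pullback r τ ≅ pullback f t := hC.isoPullback
  -- the section
  let sΩ : Spec (CommRingCat.of Ω) ⟶ pullback r τ :=
    pullback.lift (pullback.lift (pullback.lift (τ ≫ σ ≫ jA ≫ σ₀) (τ ≫ σ)
      (by simp only [g, Category.assoc])) τ (pullback.lift_snd _ _ _)) (𝟙 _)
      ((pullback.lift_snd _ _ _).trans (Category.id_comp _).symm)
  let w := sΩ (closedPoint Ω)
  have hs1 : sΩ ≫ π ≫ Curv2.bcFst K P L ≫ pullback.fst f (jA ≫ g) = τ ≫ σ ≫ jA ≫ σ₀ := by
    simp only [sΩ, π, pullback.lift_fst_assoc]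
    erw [pullback.lift_fst]
  have hs2 : sΩ ≫ π ≫ r = τ := by
    simp only [sΩ, π, pullback.lift_fst_assoc]
    erw [pullback.lift_snd]
  have h1 : sΩ ≫ π ≫ e.hom ≫ pullback.fst q j = (τ ≫ j) ≫ sB := by
    apply pullback.hom_ext
    · simp only [Category.assoc]
      rw [show e.hom ≫ pullback.fst q j ≫ pullback.fst f gB = Curv2.bcFst K P L ≫ pullback.fst f (jA ≫ g) from
        hA.isoIsPullback_hom_fst _ _ hB, hs1,
        show sB ≫ pullback.fst f gB = cA ≫ σ₀ from pullback.lift_fst _ _ _, ← Category.assoc j,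
        show j ≫ cA = σ ≫ jA by
          simp only [j, cA, σ, jA, ← Spec.map_comp, ← CommRingCat.ofHom_comp]; rfl]
      simp only [Category.assoc]
    · simp only [Category.assoc]
      rw [show pullback.fst q j ≫ pullback.snd f gB = pullback.snd q j ≫ j from pullback.condition,
        show sB ≫ pullback.snd f gB = 𝟙 _ from pullback.lift_snd _ _ _, Category.comp_id,
        ← Category.assoc e.hom, show e.hom ≫ pullback.snd q j = r from hA.isoIsPullback_hom_snd _ _ hB,
        ← Category.assoc π, ← Category.assoc sΩ, hs2]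
  haveI hdL : IsDomain ((Curv2.bc K P L).presheaf.stalk (π w)) := by
    have hw : (e.hom ≫ pullback.fst q j) (π w) = sB ((τ ≫ j) (closedPoint Ω)) := by
      exact congrArg (fun m : Spec (CommRingCat.of Ω) ⟶ pullback f gB => m (closedPoint Ω)) h1
    have hs : (e.hom ≫ pullback.fst q j) (π w) ⤳ c := by
      rw [hw]
      exact (IsLocalRing.specializes_closedPoint _).map sB.continuous
    haveI := GeomInt5.isDomain_of_specializes hs
    exact GeomInt5.isDomain_stalk_of_flat_preimmersion (e.hom ≫ pullback.fst q j) (π w)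
  have hfst : pullback.fst f t (e'.hom w) = σ₀ (genericPoint (Spec (CommRingCat.of A))) := by
    have h2 : sΩ ≫ e'.hom ≫ pullback.fst f t = τ ≫ σ ≫ jA ≫ σ₀ := by
      rw [show e'.hom ≫ pullback.fst f t = π ≫ Curv2.bcFst K P L ≫ pullback.fst f (jA ≫ g) from
        hC.isoPullback_hom_fst]
      exact hs1
    have h3 : pullback.fst f t (e'.hom w) = (τ ≫ σ ≫ jA ≫ σ₀) (closedPoint Ω) := by
      rw [← h2]; rfl
    rw [h3]
    show σ₀ (jA ((τ ≫ σ) (closedPoint Ω))) = _
    rw [Subsingleton.elim (α := PrimeSpectrum K) ((τ ≫ σ) (closedPoint Ω)) (closedPoint K), hjA]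
  have hred : FBase.IsGeomReducedAt (f.fiberToSpecResidueField (f (pullback.fst f t (e'.hom w))))
      (f.asFiber (pullback.fst f t (e'.hom w))) := by
    rw [hfst]
    have hG := FibDepth5.isOpen_flat_geomReduced f
    exact (((genericPoint_spec _).specializes trivial : genericPoint (Spec (CommRingCat.of A)) ⤳ closedPoint A).map
      σ₀.continuous |>.mem_open hG ⟨Flat.stalkMap f _, geomReduced_of_ptInt f hint⟩).2
  haveI := isReduced_stalk_iff_of_iso e' w (isReduced_stalk_of_geomReduced f t (e'.hom w) hred)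
  haveI : IsDomain ((pullback r τ).presheaf.stalk w) := by
    refine isDomain_stalk_of_unique w fun S hS T hT hwS hwT => ?_
    have key : ∀ C ∈ irreducibleComponents ↥(pullback r τ), w ∈ C →
        ∃ D ∈ irreducibleComponents ↥(Curv2.bc K P L), π w ∈ D ∧ C = π ⁻¹' D := by
      intro C hC hwC
      obtain ⟨D, hD, hCD⟩ := exists_mem_irreducibleComponents_subset_of_isIrreducible _
        (hC.1.image π π.continuous.continuousOn)
      exact ⟨D, hD, hCD ⟨w, hwC, rfl⟩,
        (Set.image_subset_iff.1 hCD).antisymm (hC.2 (hlev Ω D hD) (Set.image_subset_iff.1 hCD))⟩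
    obtain ⟨D, hD, hwD, rfl⟩ := key S hS hwS
    obtain ⟨D', hD', hwD', rfl⟩ := key T hT hwT
    rw [unique_component (π w) hD hD' hwD hwD']
  rw [← hfst, ptInt_iff]
  exact (isDomain_stalk_iff_of_iso e' w).2 inferInstance

theorem isOpen_noetherian {X Y : Scheme.{u}} [IsLocallyNoetherian Y] (f : X ⟶ Y) [Flat f]
    [LocallyOfFinitePresentation f] [QuasiCompact f] : IsOpen {x : X | PtInt f x} := by
  haveI : IsLocallyNoetherian X := LocallyOfFiniteType.isLocallyNoetherian f
  refine isOpen_iff_mem_nhds.2 fun x hx => ?_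
  refine Filter.mem_of_superset ((isClosed_closure (s := {z : X | PtInt f z}ᶜ)).isOpen_compl.mem_nhds
    (ZConn5.notMem_closure (fun z => ((isLocallyConstructible f) z).imp fun U h =>
      ⟨h.1, h.2.1, h.2.2.compl⟩) fun x' hx' hne => hne ?_)) fun z hz => not_not.1 fun h => hz (subset_closure h)
  show PtInt f x'
  by_cases he : x' = x
  · subst he; exact hx
  obtain ⟨A, _, _, _, _, _, g, hg, hg'⟩ := ZConn5.exists_complete_trait hx' he
  subst hg hg'
  exact ptInt_generic f g hx

end Groth.Agent.PtInt5

namespace Groth.Agent.PtInt5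

/-- Flat morphisms of finite presentation over affine schemes come from Noetherian bases. -/
theorem exists_flat_model {X : Scheme.{u}} {A : CommRingCat.{u}} (u : X ⟶ Spec A) [Flat u] [QuasiCompact u]
    [QuasiSeparated u] [LocallyOfFinitePresentation u] :
    ∃ (S₁ X₁ : Scheme.{u}) (_ : IsLocallyNoetherian S₁) (π : Spec A ⟶ S₁) (u₁ : X₁ ⟶ S₁) (q : X ⟶ X₁),
      IsPullback q u u₁ π ∧ QuasiCompact u₁ ∧ Flat u₁ ∧ LocallyOfFinitePresentation u₁ := by
  let c := ConsH13.approxCone A
  have hc : IsLimit c := ConsH13.isLimitApproxCone A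
  haveI : CompactSpace X := QuasiCompact.compactSpace_of_compactSpace u
  haveI : QuasiSeparatedSpace X := quasiSeparatedSpace_of_quasiSeparated u
  let u' : X ⟶ c.pt := u
  haveI : LocallyOfFinitePresentation u' := ‹LocallyOfFinitePresentation u›
  haveI : Flat u' := ‹Flat u›
  obtain ⟨i, X₀, u₀, qX, h1, h2, h3, h4⟩ := LimH13.hasModel_of_finitePresentation hc (X := X) u'
  haveI := h1; haveI := h2; haveI := h3
  haveI : QuasiCompact u₀ := QuasiCompact.of_comp u₀ (Scheme.toSpecΓ ((ConsH13.approxDiagram A).obj i))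
  let D := ConsH13.approxDiagram A
  haveI : ∀ j k : _, ∀ a : j ⟶ k, IsAffineHom (D.map a) := fun j k a => inferInstance
  let c₁ : Cone (Over.forget i ⋙ D) := c.whisker (Over.forget i)
  have hc₁ : IsLimit c₁ := (Functor.Initial.isLimitWhiskerEquiv (Over.forget i) c).symm hc
  haveI : ∀ k, IsAffineHom ((Descend.overT D i).app k) := fun k => inferInstanceAs (IsAffineHom (D.map k.hom))
  have hq₁ : ∀ k, c₁.π.app k ≫ (Descend.overT D i).app k = c.π.app i := fun k => c.w k.hom
  obtain ⟨k, hk⟩ := Descend19.exists_flat (f := u₀) (D := Over.forget i ⋙ D) (t := Descend.overT D i)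
    (q := c.π.app i) hc₁ hq₁ (g := u') h4
  obtain ⟨q₁, sq₁⟩ := ZConn5.isPullback_stage h4 (D.map k.hom) (c.π.app k.left) (c.w k.hom)
  refine ⟨D.obj k.left, _, ?_, c.π.app k.left, pullback.snd u₀ (D.map k.hom), q₁, sq₁,
    MorphismProperty.pullback_snd _ _ inferInstance, hk, MorphismProperty.pullback_snd _ _ inferInstance⟩
  show IsLocallyNoetherian (Spec ((ConsH13.subFunctor A).obj k.left.unop))
  haveI : IsNoetherianRing ((ConsH13.subFunctor A).obj k.left.unop) := inferInstance
  infer_instance

theorem isOpen {X S : Scheme.{u}} (f : X ⟶ S) [Flat f] [LocallyOfFinitePresentation f] :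
    IsOpen {x : X | PtInt f x} := by
  refine isOpen_iff_forall_mem_open.2 fun x hx => ?_
  obtain ⟨V, hV, U, hU, f₀, j, hxU, hj, h1, h2⟩ := exists_chart f x
  haveI := hj
  haveI : IsAffine (U : Scheme.{u}) := hU
  haveI : LocallyOfFinitePresentation f₀ := by
    rw [← h1]
    haveI : LocallyOfFinitePresentation (pullback.snd f hV.fromSpec) :=
      MorphismProperty.pullback_snd _ _ ‹LocallyOfFinitePresentation f›
    infer_instance
  haveI : Flat f₀ := by
    rw [← h1]
    haveI : Flat (pullback.snd f hV.fromSpec) := MorphismProperty.pullback_snd _ _ ‹Flat f›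
    infer_instance
  obtain ⟨S₁, X₁, _, π, u₁, q, sq, _, _, _⟩ := exists_flat_model f₀
  refine ⟨U.ι '' (q ⁻¹' {z | PtInt u₁ z}), ?_, U.ι.isOpenEmbedding.isOpenMap _
    ((isOpen_noetherian u₁).preimage q.continuous), ⟨⟨x, hxU⟩, ?_, rfl⟩⟩
  · rintro _ ⟨v, hv, rfl⟩
    exact (ptInt_chart f hV h1 h2 v).1 ((ptInt_baseChange_iff sq v).2 hv)
  · exact (ptInt_baseChange_iff sq _).1 ((ptInt_chart f hV h1 h2 ⟨x, hxU⟩).2 hx)

end Groth.Agent.PtInt5
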