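import Groth.Agent.Lib.PtInt5.Generic
import Groth.Agent.Lib.ConsH13.Engine
import Groth.Agent.Lib.ConsH13.IndCons

/-!
The locus of geometrically pointwise integral points of fibres is locally constructible (EGA IV 9.9.4).
-/

set_option autoImplicit false
set_option linter.style.haveILetI false
set_option backward.isDefEq.respectTransparency false

universe u

open CategoryTheory CategoryTheory.Limits AlgebraicGeometry TopologicalSpace Topology IsLocalRing

namespace Groth.Agent.PtInt5

theorem isConstructible_noetherian {R : CommRingCat.{u}} [IsNoetherianRing R] {X : Scheme.{u}}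
    (f : X ⟶ Spec R) [LocallyOfFiniteType f] [QuasiCompact f] :
    IsConstructible {x : X | PtInt f x} := by
  haveI : IsLocallyNoetherian X := LocallyOfFiniteType.isLocallyNoetherian f
  haveI : CompactSpace X := QuasiCompact.compactSpace_of_compactSpace f
  haveI : AlgebraicGeometry.IsNoetherian X := {}
  refine ConsH13.isConstructible_of_generic _ fun Z hZ hZc => ?_
  let z := hZ.genericPoint
  have hgz : closure ({z} : Set X) = Z := hZ.closure_genericPoint hZc
  let P : Ideal R := (f z : PrimeSpectrum R).asIdeal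
  haveI : P.IsPrime := (f z : PrimeSpectrum R).2
  let i : Spec (CommRingCat.of (R ⧸ P)) ⟶ Spec R := Spec.map (CommRingCat.ofHom (Ideal.Quotient.mk P))
  haveI : IsClosedImmersion i := IsClosedImmersion.spec_of_surjective _ Ideal.Quotient.mk_surjective
  have hi : i (GeomSpread4.bot (R ⧸ P)) = f z := PrimeSpectrum.ext (by
    show (⊥ : Ideal (R ⧸ P)).comap (Ideal.Quotient.mk P) = P
    exact Ideal.mk_ker)
  let f' := pullback.snd f i
  let π := pullback.fst f i
  have hc : IsPullback π f' f i := IsPullback.of_hasPullback f i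
  obtain ⟨zD, hzD, hfzD⟩ := Scheme.Pullback.exists_preimage_pullback (f := f) (g := i) z _ hi.symm
  have main : ∀ (b : Prop) (UD : (pullback f i).Opens), zD ∈ UD →
      (∀ x, x ∈ closure {zD} → x ∈ UD → (PtInt f' x ↔ b)) →
      ∃ U : Set X, IsOpen U ∧ (Z ∩ U).Nonempty ∧ ∀ x ∈ Z ∩ U, (PtInt f x ↔ b) := by
    intro b UD hzU hUD
    obtain ⟨U, hU, hUe⟩ := π.isEmbedding.isInducing.isOpen_iff.1 UD.2
    refine ⟨U, hU, ⟨z, hgz ▸ subset_closure rfl, ?_⟩, fun x hx => ?_⟩
    · rw [← hzD]
      exact hUe.ge hzU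
    · obtain ⟨x', rfl⟩ : x ∈ Set.range π :=
        closure_minimal (t := Set.range π) (Set.singleton_subset_iff.2 ⟨zD, hzD⟩) π.isClosedEmbedding.isClosed_range
          (hgz.ge hx.1)
      rw [← ptInt_baseChange_iff hc x']
      refine hUD x' ?_ (hUe.le hx.2)
      rw [π.isEmbedding.closure_eq_preimage_closure_image, Set.image_singleton, Set.mem_preimage]
      rw [show π zD = z from hzD]
      exact hgz.ge hx.1
  by_cases hE : PtInt f' zD
  · obtain ⟨UD, h1, h2⟩ := exists_open_of_ptInt f' hfzD hE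
    obtain ⟨U, hU, hne, h⟩ := main True UD h1 fun x hx hxU => iff_true_intro (h2 x hx hxU)
    exact ⟨U, hU, hne, .inl fun x hx => (h x hx).2 trivial⟩
  · obtain ⟨UD, h1, h2⟩ := exists_open_of_not_ptInt f' hfzD hE
    obtain ⟨U, hU, hne, h⟩ := main False UD h1 fun x hx hxU => iff_false_intro (h2 x hx hxU)
    exact ⟨U, hU, hne, .inr fun x hx => (h x hx).1⟩

theorem isConstructible_affine {A : CommRingCat.{u}} {X : Scheme.{u}} (f : X ⟶ Spec A)
    [LocallyOfFinitePresentation f] [QuasiCompact f] [QuasiSeparated f] :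
    IsLocallyConstructible {x : X | PtInt f x} := by
  obtain ⟨R, hR, π, X', -, u', -, qX, -, i1, i2, -, -, sX, -⟩ := ConsH13.exists_noetherian_model_pair A f f
  haveI := i1
  haveI := i2
  rw [show {x : X | PtInt f x} = qX ⁻¹' {x | PtInt u' x} from Set.ext fun x => ptInt_baseChange_iff sX x]
  exact ConsH13.isLocallyConstructible_preimage qX (isConstructible_noetherian u').isLocallyConstructible

/-- A chart with affine source and target. -/
theorem exists_chart {X S : Scheme.{u}} (f : X ⟶ S) (x : X) :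
    ∃ (V : S.Opens) (_ : IsAffineOpen V) (U : X.Opens) (_ : IsAffineOpen U)
      (f₀ : (U : Scheme.{u}) ⟶ Spec Γ(S, V)) (j : (U : Scheme.{u}) ⟶ pullback f (IsAffineOpen.fromSpec ‹_›)),
      x ∈ U ∧ IsOpenImmersion j ∧ j ≫ pullback.snd _ _ = f₀ ∧ j ≫ pullback.fst _ _ = U.ι := by
  obtain ⟨V, hV, hxV, -⟩ := exists_isAffineOpen_mem_and_subset (X := S) (x := f x) (U := ⊤) trivial
  obtain ⟨U, hU, hxU, hUV⟩ := exists_isAffineOpen_mem_and_subset (X := X) (x := x) (U := f ⁻¹ᵁ V) hxV
  have hr : Set.range (U.ι ≫ f) ⊆ Set.range hV.fromSpec := by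
    rintro _ ⟨u, rfl⟩
    rw [hV.range_fromSpec]
    exact hUV u.2
  let f₀ := IsOpenImmersion.lift hV.fromSpec (U.ι ≫ f) hr
  let j : (U : Scheme.{u}) ⟶ pullback f hV.fromSpec :=
    pullback.lift U.ι f₀ (IsOpenImmersion.lift_fac _ _ _).symm
  refine ⟨V, hV, U, hU, f₀, j, hxU, ?_, pullback.lift_snd _ _ _, pullback.lift_fst _ _ _⟩
  haveI : IsOpenImmersion (j ≫ pullback.fst f hV.fromSpec) := by
    rw [pullback.lift_fst]; infer_instance
  exact IsOpenImmersion.of_comp j (pullback.fst f hV.fromSpec)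

theorem ptInt_chart {X S : Scheme.{u}} (f : X ⟶ S) {V : S.Opens} (hV : IsAffineOpen V) {U : X.Opens}
    {f₀ : (U : Scheme.{u}) ⟶ Spec Γ(S, V)} {j : (U : Scheme.{u}) ⟶ pullback f hV.fromSpec} [IsOpenImmersion j]
    (h1 : j ≫ pullback.snd _ _ = f₀) (h2 : j ≫ pullback.fst _ _ = U.ι) (v : U) :
    PtInt f₀ v ↔ PtInt f v.1 := by
  subst h1
  rw [ptInt_openImmersion_iff, ptInt_baseChange_iff (IsPullback.of_hasPullback f hV.fromSpec),
    ← Scheme.Hom.comp_apply, h2]
  rfl

theorem isLocallyConstructible {X S : Scheme.{u}} (f : X ⟶ S) [LocallyOfFinitePresentation f] :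
    IsLocallyConstructible {x : X | PtInt f x} := by
  intro x
  obtain ⟨V, hV, U, hU, f₀, j, hxU, hj, h1, h2⟩ := exists_chart f x
  haveI := hj
  haveI : IsAffine (U : Scheme.{u}) := hU
  haveI : LocallyOfFinitePresentation f₀ := by
    rw [← h1]
    haveI : LocallyOfFinitePresentation (pullback.snd f hV.fromSpec) := MorphismProperty.pullback_snd _ _ ‹_›
    infer_instance
  refine ⟨U, U.2.mem_nhds hxU, U.2, ?_⟩
  refine (congrArg IsConstructible (Set.ext fun v : U => ptInt_chart f hV h1 h2 v)).mp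
    (isConstructible_affine f₀).isConstructible

end Groth.Agent.PtInt5
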