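import Groth.Agent.Lib.Cons12.DomainLocus
import Groth.Agent.Lib.GeomRed18.PtInt
import Groth.Agent.Lib.GeomIntUnibr4

/-!
Geometric pointwise integrality of fibres, read at geometric points of the base.
-/

set_option autoImplicit false
set_option linter.style.haveILetI false
set_option backward.isDefEq.respectTransparency false

universe u

open CategoryTheory CategoryTheory.Limits AlgebraicGeometry TopologicalSpace Topology IsLocalRing

namespace Groth.Agent.PtInt5

variable {X Y : Scheme.{u}}

/-- The fibre through `x` is geometrically pointwise integral at `x`. -/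
abbrev PtInt (f : X ⟶ Y) (x : X) : Prop :=
  FBase.IsGeomPtIntegralAt (f.fiberToSpecResidueField (f x)) (f.asFiber x)

theorem ptInt_iff_fiber (f : X ⟶ Y) {s : Y} (v : f.fiber s) :
    PtInt f (f.fiberι s v) ↔ FBase.IsGeomPtIntegralAt (f.fiberToSpecResidueField s) v := by
  have key : ∀ x : X, ∀ hs : f x = s, ∀ v : f.fiber s, f.fiberι s v = x →
      (PtInt f x ↔ FBase.IsGeomPtIntegralAt (f.fiberToSpecResidueField s) v) := by
    intro x hs v hv
    subst hs
    rw [show v = f.asFiber x from (f.fiberι (f x)).isEmbedding.injective (hv.trans (f.fiberι_asFiber _).symm)]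
  refine key _ ?_ v rfl
  have h : f.fiberι s v ∈ Set.range (f.fiberι s) := ⟨v, rfl⟩
  rwa [f.range_fiberι] at h

theorem isDomain_stalk_iff_of_iso {W W' : Scheme.{u}} (e : W ≅ W') (w : W) :
    IsDomain (W'.presheaf.stalk (e.hom w)) ↔ IsDomain (W.presheaf.stalk w) :=
  GeomRed.stalk_congr_isDomain e.hom w

theorem isReduced_stalk_iff_of_iso {W W' : Scheme.{u}} (e : W ≅ W') (w : W) :
    _root_.IsReduced (W'.presheaf.stalk (e.hom w)) → _root_.IsReduced (W.presheaf.stalk w) := fun _ =>
  isReduced_of_injective (asIso (e.hom.stalkMap w)).commRingCatIsoToRingEquiv.symm.toRingHom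
    (asIso (e.hom.stalkMap w)).commRingCatIsoToRingEquiv.symm.injective

variable {Ω : Type u} [Field Ω] [IsAlgClosed Ω]

/-- A geometric point of the base factors through a residue field, and the fibre product is a base change
of the fibre. -/
theorem exists_bc_iso (f : X ⟶ Y) (t : Spec (CommRingCat.of Ω) ⟶ Y) (w : ↥(pullback f t)) :
    ∃ (s : Y) (_ : Algebra (Y.residueField s) Ω)
      (e : FBase.bc (k := Y.residueField s) (f.fiberToSpecResidueField s) Ω ≅ pullback f t),
      f.fiberι s (FBase.bcπ (k := Y.residueField s) (f.fiberToSpecResidueField s) Ω (e.inv w)) = pullback.fst f t w := by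
  obtain ⟨⟨s, φ⟩, hφ⟩ := (Scheme.SpecToEquivOfField Ω Y).symm.surjective t
  change Spec.map φ ≫ Y.fromSpecResidueField s = t at hφ
  subst hφ
  letI : Algebra (Y.residueField s) Ω := φ.hom.toAlgebra
  let e : FBase.bc (k := Y.residueField s) (f.fiberToSpecResidueField s) Ω ≅ pullback f (Spec.map φ ≫ Y.fromSpecResidueField s) :=
    pullbackLeftPullbackSndIso f (Y.fromSpecResidueField s) (Spec.map φ)
  refine ⟨s, inferInstance, e, ?_⟩
  obtain ⟨z, rfl⟩ := e.hom.surjective w
  rw [show e.inv (e.hom z) = z from by rw [← Scheme.Hom.comp_apply, e.hom_inv_id]; rfl]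
  have h : e.hom ≫ pullback.fst _ _ = FBase.bcπ (k := Y.residueField s) (f.fiberToSpecResidueField s) Ω ≫ f.fiberι s :=
    pullbackLeftPullbackSndIso_hom_fst _ _ _
  rw [← Scheme.Hom.comp_apply, ← Scheme.Hom.comp_apply, h]

/-- Geometric pointwise integrality read at any geometric point. -/
theorem ptInt_iff (f : X ⟶ Y) (t : Spec (CommRingCat.of Ω) ⟶ Y) (w : ↥(pullback f t)) :
    PtInt f (pullback.fst f t w) ↔ IsDomain ((pullback f t).presheaf.stalk w) := by
  obtain ⟨s, _, e, h⟩ := exists_bc_iso f t w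
  rw [← h, ptInt_iff_fiber]
  refine (Cons12.isGeomPtIntegralAt_iff_bc (k := Y.residueField s) (f.fiberToSpecResidueField s) Ω _).trans ?_
  exact isDomain_stalk_iff_of_iso e.symm w

/-- Geometric reducedness read at a geometric point. -/
theorem isReduced_stalk_of_geomReduced (f : X ⟶ Y) (t : Spec (CommRingCat.of Ω) ⟶ Y) (w : ↥(pullback f t))
    (hw : FBase.IsGeomReducedAt (f.fiberToSpecResidueField (f (pullback.fst f t w)))
      (f.asFiber (pullback.fst f t w))) : _root_.IsReduced ((pullback f t).presheaf.stalk w) := by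
  obtain ⟨s, _, e, h⟩ := exists_bc_iso f t w
  have key : ∀ x : X, ∀ hs : f x = s, ∀ v : f.fiber s, f.fiberι s v = x →
      FBase.IsGeomReducedAt (f.fiberToSpecResidueField (f x)) (f.asFiber x) →
      FBase.IsGeomReducedAt (f.fiberToSpecResidueField s) v := by
    intro x hs v hv hx
    subst hs
    rwa [show v = f.asFiber x from (f.fiberι (f x)).isEmbedding.injective (hv.trans (f.fiberι_asFiber _).symm)]
  have hs : f (pullback.fst f t w) = s := by
    have hm : pullback.fst f t w ∈ Set.range (f.fiberι s) := ⟨_, h⟩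
    rwa [f.range_fiberι] at hm
  exact isReduced_stalk_iff_of_iso e.symm w (@key _ hs _ h hw Ω _ (inferInstance : Algebra (Y.residueField s) Ω) _ rfl)

theorem exists_geom_point (f : X ⟶ Y) (x : X) :
    ∃ (Ω : Type u) (_ : Field Ω) (_ : IsAlgClosed Ω) (t : Spec (CommRingCat.of Ω) ⟶ Y)
      (w : ↥(pullback f t)), pullback.fst f t w = x := by
  let K := Y.residueField (f x)
  let t : Spec (CommRingCat.of (AlgebraicClosure K)) ⟶ Y :=
    Spec.map (CommRingCat.ofHom (algebraMap K (AlgebraicClosure K))) ≫ Y.fromSpecResidueField (f x)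
  have ht : f x = t (closedPoint (AlgebraicClosure K)) := by
    show f x = (Spec.map _ ≫ Y.fromSpecResidueField (f x)) _
    rw [Scheme.Hom.comp_apply, Scheme.fromSpecResidueField_apply]
  obtain ⟨w, hw, -⟩ := Scheme.Pullback.exists_preimage_pullback (f := f) (g := t) x _ ht
  exact ⟨_, inferInstance, inferInstance, t, w, hw⟩

/-- Invariance under base change. -/
theorem ptInt_baseChange_iff {X' Y' : Scheme.{u}} {f : X ⟶ Y} {f' : X' ⟶ Y'} {p : X' ⟶ X} {h : Y' ⟶ Y}
    (hsq : IsPullback p f' f h) (x' : X') : PtInt f' x' ↔ PtInt f (p x') := by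
  obtain ⟨Ω, _, _, t, w, rfl⟩ := exists_geom_point f' x'
  let sq := (IsPullback.of_hasPullback f' t).paste_horiz hsq
  let e : pullback f' t ≅ pullback f (t ≫ h) := sq.isoPullback
  have he : pullback.fst f (t ≫ h) (e.hom w) = p (pullback.fst f' t w) := by
    rw [← Scheme.Hom.comp_apply, sq.isoPullback_hom_fst, Scheme.Hom.comp_apply]
  rw [← he, ptInt_iff, ptInt_iff]
  exact (isDomain_stalk_iff_of_iso e w).symm

/-- Invariance under open immersions. -/
theorem ptInt_openImmersion_iff {U : Scheme.{u}} (j : U ⟶ X) [IsOpenImmersion j] (f : X ⟶ Y) (x : U) :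
    PtInt (j ≫ f) x ↔ PtInt f (j x) := by
  obtain ⟨Ω, _, _, t, w, rfl⟩ := exists_geom_point (j ≫ f) x
  let m : pullback (j ≫ f) t ⟶ pullback f t :=
    pullback.map _ _ _ _ j (𝟙 _) (𝟙 _) (Category.comp_id _) (by rw [Category.comp_id, Category.id_comp])
  haveI : IsOpenImmersion m := inferInstanceAs (IsOpenImmersion (pullback.map _ _ _ _ _ _ _ _ _))
  have hm : pullback.fst f t (m w) = j (pullback.fst (j ≫ f) t w) := by
    rw [← Scheme.Hom.comp_apply, pullback.lift_fst, Scheme.Hom.comp_apply]
  rw [← hm, ptInt_iff, ptInt_iff]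
  exact (GeomRed.stalk_congr_isDomain m w).symm

/-- The locus is open in each fibre. -/
theorem isOpen_fibre (f : X ⟶ Y) [LocallyOfFiniteType f] (s : Y) :
    IsOpen {v : f.fiber s | PtInt f (f.fiberι s v)} := by
  haveI : LocallyOfFiniteType (f.fiberToSpecResidueField s) := MorphismProperty.pullback_snd _ _ inferInstance
  simp only [ptInt_iff_fiber]
  exact Cons12.isOpen_geomPtIntegral (k := Y.residueField s) _

theorem geomReduced_of_ptInt (f : X ⟶ Y) {x : X} (h : PtInt f x) :
    FBase.IsGeomReducedAt (f.fiberToSpecResidueField (f x)) (f.asFiber x) :=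
  GeomIntUnibr4.isGeomReducedAt_of_geomPtIntegral _ _ h

/-- A reduced point lying on a single component has domain local ring. -/
theorem isDomain_stalk_of_unique {Z : Scheme.{u}} (x : Z) [_root_.IsReduced (Z.presheaf.stalk x)]
    (h : ∀ S ∈ irreducibleComponents (Z : Type u), ∀ T ∈ irreducibleComponents (Z : Type u), x ∈ S → x ∈ T → S = T) :
    IsDomain (Z.presheaf.stalk x) := by
  let R := Z.presheaf.stalk x
  let φ : PrimeSpectrum R → Z := Z.fromSpecStalk x
  have hemb : IsEmbedding φ := (Z.fromSpecStalk x).isEmbedding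
  have hcomp : ∀ q : PrimeSpectrum R, q.asIdeal ∈ minimalPrimes R →
      closure {φ q} ∈ irreducibleComponents (Z : Type u) ∧ x ∈ closure {φ q} := by
    intro q hq
    have hqx : φ q ⤳ x := Scheme.range_fromSpecStalk.le ⟨q, rfl⟩
    refine ⟨?_, specializes_iff_mem_closure.1 hqx⟩
    let c : irreducibleComponents (Z : Type u) :=
      ⟨irreducibleComponent (φ q), irreducibleComponent_mem_irreducibleComponents _⟩
    let g := genericPoints.ofComponent c
    have hg : g.1 ⤳ φ q := specializes_iff_mem_closure.2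
      ((genericPoints.isGenericPoint_ofComponent c).def.symm ▸ mem_irreducibleComponent)
    obtain ⟨q', hq'⟩ : g.1 ∈ Set.range φ := Scheme.range_fromSpecStalk.ge (hg.trans hqx)
    have hle : q' ≤ q := (PrimeSpectrum.le_iff_specializes q' q).2 (hemb.isInducing.specializes_iff.1 (hq' ▸ hg))
    have : q' = q := le_antisymm hle (hq.2 ⟨q'.2, bot_le⟩ hle)
    rw [show φ q = g.1 from this ▸ hq']
    exact (genericPoints.isGenericPoint_ofComponent c).def.symm ▸ c.2
  obtain ⟨p, hp⟩ : (minimalPrimes R).Nonempty := Set.nonempty_coe_sort.1 (Ideal.nonempty_minimalPrimes (bot_ne_top))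
  haveI := hp.1.1
  have huniq : ∀ q ∈ minimalPrimes R, q = p := fun q hq => by
    obtain ⟨a1, a2⟩ := hcomp ⟨q, hq.1.1⟩ hq
    obtain ⟨b1, b2⟩ := hcomp ⟨p, hp.1.1⟩ hp
    exact congrArg PrimeSpectrum.asIdeal
      (hemb.injective (inseparable_iff_closure_eq.2 (h _ a1 _ b1 a2 b2)).eq)
  have hbot : (⊥ : Ideal R) = p := by
    refine le_antisymm bot_le fun a ha => ?_
    have hmem : a ∈ nilradical R := by
      rw [nilradical_eq_sInf, Submodule.mem_sInf]
      intro J hJ
      haveI : Ideal.IsPrime J := hJ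
      obtain ⟨q, hq, hqJ⟩ := Ideal.exists_minimalPrimes_le (bot_le : (⊥ : Ideal R) ≤ J)
      exact hqJ ((huniq q hq).symm ▸ ha)
    exact (mem_nilradical.1 hmem).eq_zero
  haveI : (⊥ : Ideal R).IsPrime := hbot ▸ hp.1.1
  exact IsDomain.of_bot_isPrime R

/-- A point with domain local ring lies on a single component. -/
theorem unique_component {Z : Scheme.{u}} (x : Z) [IsDomain (Z.presheaf.stalk x)] {S T : Set Z}
    (hS : S ∈ irreducibleComponents (Z : Type u)) (hT : T ∈ irreducibleComponents (Z : Type u))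
    (hxS : x ∈ S) (hxT : x ∈ T) : S = T := by
  obtain ⟨a, rfl, ha⟩ := VarDim.exists_generic_of_mem_irreducibleComponents hS
  obtain ⟨b, rfl, hb⟩ := VarDim.exists_generic_of_mem_irreducibleComponents hT
  rw [GeomIntUnibr4.eq_of_maximal_of_isDomain (specializes_iff_mem_closure.2 hxS)
    (specializes_iff_mem_closure.2 hxT) ha hb]

end Groth.Agent.PtInt5
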