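import Groth.Agent.Lib.PtInt5.Core
import Groth.Agent.Lib.GeomSpread4.Count
import Groth.Agent.Lib.FlatH4.GenFlatScheme
import Groth.Agent.Lib.FibDepth5.GeomRedOpen
import Groth.Agent.Lib.RelPCS8.FlatTerms
import Groth.Agent.Lib.ModM1.Coh

/-!
Spreading of geometric pointwise integrality from a point over the generic point of the base (EGA IV 9.9.4).
-/

set_option autoImplicit false
set_option linter.style.haveILetI false
set_option backward.isDefEq.respectTransparency false
set_option maxHeartbeats 800000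

universe u

open CategoryTheory CategoryTheory.Limits AlgebraicGeometry TopologicalSpace Topology IsLocalRing

namespace Groth.Agent.PtInt5

open GeomSpread4

variable {X : Scheme.{u}}

theorem flat_stalk_structureModule {Y : Scheme.{u}} (f : X ⟶ Y) (x : X)
    (h : FlatMod.IsFlatOverAt f (Coh.structureModule X) x) : (f.stalkMap x).hom.Flat := by
  let A := Y.presheaf.stalk (f x)
  let B := X.presheaf.stalk x
  letI : Algebra A B := (f.stalkMap x).hom.toAlgebra
  letI : Module A ((Coh.structureModule X).presheaf.stalk x) := FlatMod.moduleStalkOver f (Coh.structureModule X) x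
  haveI : IsScalarTower A B ((Coh.structureModule X).presheaf.stalk x) := ⟨fun r b z => by
    change ((f.stalkMap x).hom r * b) • z = (f.stalkMap x).hom r • b • z
    rw [mul_smul]⟩
  let e : B ≃ₗ[B] ((Coh.structureModule X).presheaf.stalk x : Type u) :=
    LinearEquiv.ofBijective (LinearMap.toSpanSingleton _ _ _) (Cyc26.structureModule_stalk_bijective x)
  haveI : Module.Flat A ((Coh.structureModule X).presheaf.stalk x) := h
  exact Module.Flat.of_linearEquiv (e.restrictScalars A)

variable {D : Type u} [CommRing D] [IsDomain D] [IsNoetherianRing D]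

/-- A point of the generic fibre in the locus spreads along its closure. -/
theorem exists_open_of_ptInt (f : X ⟶ Spec (CommRingCat.of D)) [LocallyOfFiniteType f]
    {z : X} (hz : f z = bot D) (hE : PtInt f z) :
    ∃ U : X.Opens, z ∈ U ∧ ∀ x, x ∈ closure {z} → x ∈ U → PtInt f x := by
  obtain ⟨O, hO, hOE⟩ := isOpen_induced_iff.1
    ((f.fiberι (f z)).isEmbedding.eq_induced ▸ isOpen_fibre f (f z))
  have hzO : z ∈ O := by
    have h1 : f.asFiber z ∈ f.fiberι (f z) ⁻¹' O := hOE.ge (by
      show PtInt f (f.fiberι (f z) (f.asFiber z))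
      rwa [f.fiberι_asFiber])
    rwa [Set.mem_preimage, f.fiberι_asFiber] at h1
  obtain ⟨W, hW, hzW, hWO⟩ := exists_isAffineOpen_mem_and_subset (X := X) (x := z) (U := ⟨O, hO⟩) hzO
  haveI : IsAffine (W : Scheme.{u}) := hW
  haveI : LocallyOfFinitePresentation (W.ι ≫ f) := LimH13.locallyOfFinitePresentation_of_noetherian _
  let C := {s | ∀ v : (W.ι ≫ f).fiber s, FBase.IsGeomPtIntegralAt ((W.ι ≫ f).fiberToSpecResidueField s) v}
  have hC : IsConstructible C :=
    (Cons12.isLocallyConstructible_fibre_geomPtIntegral (W.ι ≫ f)).isConstructible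
  have hbot : bot D ∈ C := fun v => by
    rw [← ptInt_iff_fiber, ptInt_openImmersion_iff]
    set x := W.ι ((W.ι ≫ f).fiberι (bot D) v) with hx
    have hfx : f x = f z := by
      have h := ((W.ι ≫ f).range_fiberι (bot D)).le ⟨v, rfl⟩
      rw [hz]
      exact h
    obtain ⟨v', hv'⟩ : x ∈ Set.range (f.fiberι (f z)) := (f.range_fiberι (f z)).ge hfx
    have h2 : v' ∈ f.fiberι (f z) ⁻¹' O := by
      rw [Set.mem_preimage, hv']
      exact hWO ((W.ι ≫ f).fiberι (bot D) v).2
    rw [← hv']
    exact hOE.le h2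
  obtain ⟨a, ha, hsub⟩ := exists_basicOpen_subset hC hbot
  refine ⟨W ⊓ f ⁻¹ᵁ PrimeSpectrum.basicOpen a, ⟨hzW, ?_⟩, fun x _ hx => ?_⟩
  · show f z ∈ PrimeSpectrum.basicOpen a
    rw [hz]
    exact fun h => ha (Ideal.mem_bot.1 h)
  · have h1 := hsub (f x) hx.2
    let x' : (W : Scheme.{u}) := ⟨x, hx.1⟩
    have h3 := (ptInt_iff_fiber (W.ι ≫ f) ((W.ι ≫ f).asFiber x')).2 (h1 _)
    rw [(W.ι ≫ f).fiberι_asFiber, ptInt_openImmersion_iff] at h3
    exact h3

/-- A point of the generic fibre outside the locus spreads along its closure. -/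
theorem exists_open_of_not_ptInt (f : X ⟶ Spec (CommRingCat.of D)) [LocallyOfFiniteType f] [QuasiCompact f]
    {z : X} (hz : f z = bot D) (hE : ¬ PtInt f z) :
    ∃ U : X.Opens, z ∈ U ∧ ∀ x, x ∈ closure {z} → x ∈ U → ¬ PtInt f x := by
  haveI : LocallyOfFinitePresentation f := LimH13.locallyOfFinitePresentation_of_noetherian _
  haveI : IsLocallyNoetherian X := LocallyOfFiniteType.isLocallyNoetherian f
  haveI := M1.isQCoh_structureModule X
  obtain ⟨V, ⟨p, hp⟩, hV⟩ := FlatH4.exists_open_isFlatOverAt f (Coh.structureModule X)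
    (fun W hW => M1.finite_sections (M1.isCoh_structureModule X).1 (M1.isCoh_structureModule X).2 hW)
  have hbotV : bot D ∈ (V : Set ↥(Spec (CommRingCat.of D))) :=
    ((PrimeSpectrum.le_iff_specializes (⟨⊥, Ideal.isPrime_bot⟩ : PrimeSpectrum D) p).1 bot_le).mem_open V.2 hp
  let G := {x : X | (f.stalkMap x).hom.Flat ∧
    FBase.IsGeomReducedAt (f.fiberToSpecResidueField (f x)) (f.asFiber x)}
  by_cases hzG : z ∈ G
  swap
  · refine ⟨f ⁻¹ᵁ V, show f z ∈ V by rw [hz]; exact hbotV, fun x hx hxV hxE => hzG ?_⟩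
    exact (specializes_iff_mem_closure.2 hx).mem_open (FibDepth5.isOpen_flat_geomReduced f)
      ⟨flat_stalk_structureModule f x (hV x hxV), geomReduced_of_ptInt f hxE⟩
  let Ω := AlgebraicClosure (FractionRing D)
  let A := ↥(integralClosure D Ω)
  haveI := isAlgClosed_fractionRing_integralClosure D
  have hDA : Function.Injective (algebraMap D A) := fun a b hab => by
    have h := congrArg Subtype.val hab
    change algebraMap D Ω a = algebraMap D Ω b at h
    rw [IsScalarTower.algebraMap_apply D (FractionRing D) Ω a,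
      IsScalarTower.algebraMap_apply D (FractionRing D) Ω b] at h
    exact IsFractionRing.injective D _ ((algebraMap (FractionRing D) _).injective h)
  let q : Spec (CommRingCat.of A) ⟶ Spec (CommRingCat.of D) := Spec.map (CommRingCat.ofHom (algebraMap D A))
  haveI : IsIntegralHom q :=
    IsIntegralHom.SpecMap_iff.2 (algebraMap_isIntegral_iff.2 inferInstance)
  let f' := pullback.snd f q
  let π := pullback.fst f q
  have hc : IsPullback π f' f q := IsPullback.of_hasPullback f q
  obtain ⟨ι, _, Z, d, hd, ⟨hZ, -⟩, hL⟩ := exists_strata_gen f'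
  let L := FractionRing A
  let t := tpt A L
  have hdL : algebraMap A L d ≠ 0 := fun h => hd (IsFractionRing.injective A L (h.trans (map_zero _).symm))
  have hqb : q (bot A) = bot D := PrimeSpectrum.ext (Ideal.comap_bot_of_injective _ hDA)
  obtain ⟨w', hw', hw'bot⟩ := Scheme.Pullback.exists_preimage_pullback (f := f) (g := q) z (bot A)
    (hz.trans hqb.symm)
  obtain ⟨w, hw⟩ : w' ∈ Set.range (pullback.fst f' t) := (range_fst_generic f').ge hw'bot
  have hwE : ¬ IsDomain ((pullback f' t).presheaf.stalk w) := by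
    rw [← ptInt_iff, hw, ptInt_baseChange_iff hc]
    show ¬ PtInt f (pullback.fst f q w')
    rwa [hw']
  have hred : _root_.IsReduced ((pullback f' t).presheaf.stalk w) := by
    refine isReduced_stalk_of_geomReduced f' t w ?_
    refine FlatUnivOpen4.isGeomReducedAt_baseChange f hc _ ?_
    rw [hw, show π w' = z from hw']
    exact hzG.2
  obtain ⟨h1, h2, h3, -⟩ := hL L hdL
  let Zp : ι → Set ↥(pullback f' t) := fun i => pullback.fst f' t ⁻¹' Z i
  have hmem : ∀ C ∈ irreducibleComponents ↥(pullback f' t), ∃ i, C = Zp i := by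
    intro C hC
    classical
    letI := Fintype.ofFinite ι
    obtain ⟨T, hT, hCT⟩ := isIrreducible_iff_sUnion_isClosed.1 hC.1 (Finset.univ.image Zp)
      (fun T hT => by
        obtain ⟨i, -, rfl⟩ := Finset.mem_image.1 hT
        exact (hZ i).preimage (pullback.fst f' t).continuous)
      (fun y _ => by obtain ⟨i, hi⟩ := h2 y; exact ⟨Zp i, by simp, hi⟩)
    obtain ⟨i, -, rfl⟩ := Finset.mem_image.1 hT
    exact ⟨i, hCT.antisymm (hC.2 (h1 i) hCT)⟩
  obtain ⟨i, j, hij, hwi, hwj⟩ : ∃ i j, i ≠ j ∧ w ∈ Zp i ∧ w ∈ Zp j := by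
    by_contra hno
    push Not at hno
    refine hwE (isDomain_stalk_of_unique w fun S hS T hT hwS hwT => ?_)
    obtain ⟨i, rfl⟩ := hmem S hS
    obtain ⟨j, rfl⟩ := hmem T hT
    by_contra hne
    exact hno i j (fun h => hne (h ▸ rfl)) hwS hwT
  have hcl : closure ({w'} : Set ↥(pullback f q)) ⊆ Z i ∩ Z j :=
    closure_minimal (Set.singleton_subset_iff.2 (hw ▸ ⟨hwi, hwj⟩)) ((hZ i).inter (hZ j))
  obtain ⟨a, ha, hane⟩ : ∃ a, a ∈ (Ideal.span {d}).comap (algebraMap D A) ∧ a ≠ 0 := by
    by_contra hcon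
    refine Ideal.comap_ne_bot_of_integral_mem (I := Ideal.span {d}) hd (Ideal.subset_span rfl)
      (Algebra.IsIntegral.isIntegral (R := D) d) ?_
    exact eq_bot_iff.2 fun x hx => Ideal.mem_bot.2 (by_contra fun h => hcon ⟨x, hx, h⟩)
  refine ⟨f ⁻¹ᵁ PrimeSpectrum.basicOpen a, ?_, fun x hx hxa hxE => ?_⟩
  · show f z ∈ PrimeSpectrum.basicOpen a
    rw [hz]
    exact fun h => hane (Ideal.mem_bot.1 h)
  obtain ⟨x', hx', rfl⟩ : x ∈ π '' closure {w'} := by
    refine closure_minimal ?_ (π.isClosedMap _ isClosed_closure) hx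
    exact Set.singleton_subset_iff.2 ⟨w', subset_closure rfl, hw'⟩
  have hdx : d ∉ (f' x' : PrimeSpectrum A).asIdeal := fun h => hxa (by
    show a ∈ (f (π x') : PrimeSpectrum D).asIdeal
    rw [← Scheme.Hom.comp_apply, hc.w, Scheme.Hom.comp_apply]
    exact (Ideal.span_singleton_le_iff_mem _).2 h ha)
  obtain ⟨M, _, _, _, hMt, hne⟩ := exists_algClosed_point (f' x')
  obtain ⟨g1, g2, g3, -⟩ := hL M (hne d hdx)
  obtain ⟨v, hv, -⟩ := Scheme.Pullback.exists_preimage_pullback (f := f') (g := tpt A M) x' _ hMt.symm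
  have hcomp : ∀ k, pullback.fst f' (tpt A M) ⁻¹' Z k ∈ irreducibleComponents ↥(pullback f' (tpt A M)) := by
    intro k
    refine ⟨g1 k, fun T hT hle => ?_⟩
    classical
    letI := Fintype.ofFinite ι
    obtain ⟨S, hS, hTS⟩ := isIrreducible_iff_sUnion_isClosed.1 hT
      (Finset.univ.image fun l => pullback.fst f' (tpt A M) ⁻¹' Z l)
      (fun S hS => by
        obtain ⟨l, -, rfl⟩ := Finset.mem_image.1 hS
        exact (hZ l).preimage (pullback.fst f' (tpt A M)).continuous)
      (fun y _ => by obtain ⟨l, hl⟩ := g2 y; exact ⟨_, by simp; exact ⟨l, rfl⟩, hl⟩)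
    obtain ⟨l, -, rfl⟩ := Finset.mem_image.1 hS
    obtain rfl := g3 k l (hle.trans hTS)
    exact hTS
  haveI : IsDomain ((pullback f' (tpt A M)).presheaf.stalk v) := by
    rw [← ptInt_iff, hv, ptInt_baseChange_iff hc]
    exact hxE
  exact hij (g3 i j (unique_component v (hcomp i) (hcomp j) (by show _ ∈ Z i; rw [hv]; exact (hcl hx').1)
    (by show _ ∈ Z j; rw [hv]; exact (hcl hx').2)).le)

end Groth.Agent.PtInt5
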